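import Groth.Agent.H15Site.HigherDirect
import Mathlib.RepresentationTheory.Homological.GroupCohomology.LongExactSequence
import Mathlib.RepresentationTheory.Homological.GroupCohomology.LowDegree
import Mathlib.RepresentationTheory.Rep.Iso
import Mathlib.Algebra.Category.ModuleCat.EnoughInjectives

/-!
# Derived functors from a dimension shift; group cohomology as a derived functor

Acyclicity of representations satisfying Higman's criterion.
-/

set_option autoImplicit false
set_option linter.style.haveILetI false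
set_option linter.unusedSectionVars false
set_option backward.isDefEq.respectTransparency false
set_option backward.isDefEq.respectTransparency.types false

universe w v v' u u'

open CategoryTheory CategoryTheory.Limits

namespace Groth.Agent.H15Site.HS

section shift

variable {C : Type u} [Category.{v} C] [Abelian C] [EnoughInjectives C]
  {D : Type u'} [Category.{v'} D] [Abelian D]
  (T : C ⥤ D) [T.Additive] [PreservesFiniteLimits T]

/-- A family of objects with the dimension shifts of the derived functors is the derived functors. -/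
theorem nonempty_rightDerived_iso (H : ℕ → C → D) (h0 : ∀ F, Nonempty (H 0 F ≅ T.obj F))
    (h1 : ∀ S : ShortComplex C, S.ShortExact → Injective S.X₂ → Nonempty (H 1 S.X₁ ≅ cokernel (T.map S.g)))
    (h2 : ∀ (n : ℕ) (S : ShortComplex C), S.ShortExact → Injective S.X₂ →
      Nonempty (H (n + 2) S.X₁ ≅ H (n + 1) S.X₃)) :
    ∀ (n : ℕ) (F : C), Nonempty ((T.rightDerived n).obj F ≅ H n F) := by
  have hS : ∀ F : C, ∃ S : ShortComplex C, S.X₁ = F ∧ S.ShortExact ∧ Injective S.X₂ := fun F => by
    refine ⟨ShortComplex.mk (Injective.ι F) (cokernel.π _) (cokernel.condition _), rfl, ?_, ?_⟩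
    · exact { exact := ShortComplex.exact_cokernel _
              mono_f := inferInstanceAs (Mono (Injective.ι F))
              epi_g := inferInstanceAs (Epi (cokernel.π (Injective.ι F))) }
    · exact inferInstanceAs (Injective (Injective.under F))
  intro n
  induction n with
  | zero => exact fun F => ⟨T.rightDerivedZeroIsoSelf.app F ≪≫ (h0 F).some.symm⟩
  | succ n ih =>
    intro F
    obtain ⟨S, rfl, hS, hI⟩ := hS F
    cases n with
    | zero =>
      obtain ⟨e⟩ := HigherDirect.nonempty_rightDerived_one_iso T hS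
        (T.isZero_rightDerived_obj_injective_succ 0 S.X₂)
      exact ⟨e ≪≫ (h1 S hS hI).some.symm⟩
    | succ m =>
      obtain ⟨e⟩ := HigherDirect.nonempty_rightDerived_succ_iso T hS m
        (T.isZero_rightDerived_obj_injective_succ m S.X₂)
        (T.isZero_rightDerived_obj_injective_succ (m + 1) S.X₂)
      exact ⟨e.symm ≪≫ (ih S.X₃).some ≪≫ (h2 m S hS hI).some.symm⟩

end shift

section group

variable {k G : Type u} [CommRing k] [Group G] [Fintype G]

/-- Higman's criterion implies the vanishing of higher cohomology. -/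
theorem isZero_groupCohomology_of_higman (M : Rep.{u} k G) (e : M.V →ₗ[k] M.V)
    (he : ∀ v, ∑ g : G, M.ρ g (e (M.ρ g⁻¹ v)) = v) (n : ℕ) : IsZero (groupCohomology M (n + 1)) := by
  refine ((groupCohomology.inhomogeneousCochains M).exactAt_iff_isZero_homology (n + 1)).1 ?_
  rw [(groupCohomology.inhomogeneousCochains M).exactAt_iff' n (n + 1) (n + 2) (by simp) (by simp),
    ShortComplex.moduleCat_exact_iff]
  intro c hc
  change ((Fin (n + 1) → G) → M.V) at c
  change (groupCohomology.inhomogeneousCochains M).d (n + 1) (n + 2) c = 0 at hc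
  rw [groupCohomology.inhomogeneousCochains.d_def] at hc
  let L : G → M.V →ₗ[k] M.V := fun h => M.ρ h ∘ₗ e
  let b : (Fin n → G) → M.V := fun g => ∑ h : G, L h (c (Fin.cons h⁻¹ g))
  refine ⟨b, ?_⟩
  change (groupCohomology.inhomogeneousCochains M).d n (n + 1) b = c
  rw [groupCohomology.inhomogeneousCochains.d_def]
  funext g
  have hd : ∀ h : G, M.ρ h⁻¹ (c g) = c (Fin.cons (h⁻¹ * g 0) fun i => g i.succ) +
      ∑ j : Fin (n + 1), (-1 : k) ^ ((j : ℕ) + 1) • c (Fin.cons h⁻¹ (Fin.contractNth j (· * ·) g)) := by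
    intro h
    have : (inhomogeneousCochains.d M (n + 1)).hom c (Fin.cons h⁻¹ g) = (0 : M.V) := congrFun hc _
    rw [inhomogeneousCochains.d_hom_apply, Fin.sum_univ_succ] at this
    have e0 : Fin.contractNth 0 (· * ·) (Fin.cons h⁻¹ g : Fin (n + 2) → G) =
        Fin.cons (h⁻¹ * g 0) fun i => g i.succ := by
      funext i
      cases i using Fin.cases with
      | zero => simp [Fin.contractNth]
      | succ i => simp [Fin.contractNth]
    have es : ∀ j : Fin (n + 1), Fin.contractNth j.succ (· * ·) (Fin.cons h⁻¹ g : Fin (n + 2) → G) =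
        Fin.cons h⁻¹ (Fin.contractNth j (· * ·) g) := by
      intro j
      funext i
      cases i using Fin.cases with
      | zero => simp [Fin.contractNth]
      | succ i => simp [Fin.contractNth, Fin.cons_succ, ← Fin.succ_castSucc]
    simp only [Fin.cons_zero, Fin.cons_succ, e0, es, Fin.val_zero, Fin.val_succ, zero_add, pow_one, pow_zero,
      neg_smul, one_smul, pow_succ, mul_neg, mul_one, Finset.sum_neg_distrib, neg_neg, Pi.zero_apply] at this
    simp only [pow_succ, mul_neg, mul_one, neg_smul, Finset.sum_neg_distrib]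
    linear_combination (norm := abel) this
  rw [inhomogeneousCochains.d_hom_apply]
  have key : ∑ h : G, L h (M.ρ h⁻¹ (c g)) = c g := he (c g)
  refine Eq.trans ?_ key
  simp only [hd, map_add, map_sum, map_smul, Finset.sum_add_distrib, b]
  congr 1
  · rw [← Equiv.sum_comp (Equiv.mulLeft (g 0)) fun h => L h (c (Fin.cons (h⁻¹ * g 0) fun i => g i.succ))]
    refine Finset.sum_congr rfl fun h _ => ?_
    simp [L, mul_inv_rev]
  · rw [Finset.sum_comm]
    simp only [Finset.smul_sum]

instance : EnoughInjectives (Rep.{u} k G) :=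
  EnoughInjectives.of_equivalence (Rep.equivalenceModuleMonoidAlgebra (k := k) (G := G)).functor

/-- Injective representations satisfy Higman's criterion. -/
theorem exists_higman_of_injective (I : Rep.{u} k G) [Injective I] :
    ∃ e : I.V →ₗ[k] I.V, ∀ v, ∑ g : G, I.ρ g (e (I.ρ g⁻¹ v)) = v := by
  classical
  let ρ' : Representation k G (G → I.V) :=
    { toFun := fun g => LinearMap.funLeft k I.V (· * g)
      map_one' := by ext φ h; simp [LinearMap.funLeft]
      map_mul' := fun g g' => by ext φ h; simp [LinearMap.funLeft, mul_assoc] }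
  let η : I ⟶ Rep.of ρ' := Rep.ofHom
    ⟨LinearMap.pi fun h => I.ρ h, fun g => by
      ext v h
      show I.ρ h (I.ρ g v) = I.ρ (h * g) v
      rw [map_mul]; rfl⟩
  haveI : Mono η := (Rep.mono_iff_injective η).2 fun v w h => by
    have := congrFun h 1
    simpa [η] using this
  let r : Rep.of ρ' ⟶ I := Injective.factorThru (𝟙 I) η
  have hr : η ≫ r = 𝟙 I := Injective.comp_factorThru _ _
  refine ⟨r.hom.toLinearMap ∘ₗ LinearMap.single k (fun _ : G => I.V) 1, fun v => ?_⟩
  have hsum : ∑ g : G, ρ' g (Pi.single 1 (I.ρ g⁻¹ v)) = η.hom.toLinearMap v := by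
    funext h
    rw [Finset.sum_apply, Finset.sum_eq_single h⁻¹]
    · show (Pi.single 1 (I.ρ h⁻¹⁻¹ v) : G → I.V) (h * h⁻¹) = I.ρ h v
      simp
    · intro g _ hg
      show (Pi.single 1 (I.ρ g⁻¹ v) : G → I.V) (h * g) = 0
      exact Pi.single_eq_of_ne (fun e => hg (eq_inv_of_mul_eq_one_right e)) _
    · simp
  have h2 : r.hom.toLinearMap (η.hom.toLinearMap v) = v := by
    have := congrArg (fun k => k.hom.toLinearMap v) hr
    exact this
  refine Eq.trans ?_ h2
  rw [← hsum, map_sum]
  refine Finset.sum_congr rfl fun g _ => ?_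
  exact (LinearMap.congr_fun (r.hom.isIntertwining' g) _).symm

/-- The cokernel description of `H¹`. -/
theorem nonempty_groupCohomology_one {X : ShortComplex (Rep.{u} k G)} (hX : X.ShortExact)
    (h : IsZero (groupCohomology X.X₂ 1)) :
    Nonempty (groupCohomology X.X₁ 1 ≅ cokernel ((Rep.invariantsFunctor k G).map X.g)) := by
  haveI : Epi (groupCohomology.δ hX 0 1 rfl) := groupCohomology.epi_δ_of_isZero hX 0 h
  haveI : Epi (groupCohomology.mapShortComplex₃ hX (rfl : 0 + 1 = 1)).g := this
  let e₀ := (groupCohomology.mapShortComplex₃_exact hX (rfl : 0 + 1 = 1)).gIsCokernel.coconePointUniqueUpToIso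
    (cokernelIsCokernel _)
  exact ⟨e₀ ≪≫ cokernel.mapIso _ _ (groupCohomology.H0Iso X.X₂) (groupCohomology.H0Iso X.X₃)
    (groupCohomology.map_id_comp_H0Iso_hom X.g)⟩

/-- The invariants followed by the forgetful functor. -/
noncomputable abbrev inv (k G : Type u) [CommRing k] [Group G] : Rep.{u} k G ⥤ AddCommGrpCat.{u} :=
  Rep.invariantsFunctor k G ⋙ forget₂ (ModuleCat.{u} k) AddCommGrpCat.{u}

theorem nonempty_rightDerived_inv (n : ℕ) (M : Rep.{u} k G) :
    Nonempty (((inv k G).rightDerived n).obj M ≅
      (forget₂ (ModuleCat.{u} k) AddCommGrpCat.{u}).obj (groupCohomology M n)) := by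
  haveI : PreservesFiniteLimits (inv k G) := inferInstance
  have hz : ∀ (I : Rep.{u} k G), Injective I → ∀ m, IsZero (groupCohomology I (m + 1)) := fun I hI m => by
    obtain ⟨e, he⟩ := exists_higman_of_injective I
    exact isZero_groupCohomology_of_higman I e he m
  refine nonempty_rightDerived_iso (inv k G)
    (fun m M => (forget₂ (ModuleCat.{u} k) AddCommGrpCat.{u}).obj (groupCohomology M m))
    (fun M => ⟨(forget₂ _ _).mapIso (groupCohomology.H0Iso M)⟩) (fun S hS hI => ?_)
    (fun m S hS hI => ?_) n M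
  · obtain ⟨e⟩ := nonempty_groupCohomology_one hS (hz _ hI 0)
    exact ⟨(forget₂ _ _).mapIso e ≪≫ PreservesCokernel.iso _ _⟩
  · haveI := groupCohomology.isIso_δ_of_isZero hS (m + 1) (hz _ hI m) (hz _ hI (m + 1))
    exact ⟨(forget₂ _ _).mapIso (asIso (groupCohomology.δ hS (m + 1) (m + 2) rfl)).symm⟩

theorem isZero_rightDerived_inv_of_higman (M : Rep.{u} k G) (e : M.V →ₗ[k] M.V)
    (he : ∀ v, ∑ g : G, M.ρ g (e (M.ρ g⁻¹ v)) = v) (n : ℕ) (hn : 0 < n) :
    IsZero (((inv k G).rightDerived n).obj M) := by
  obtain ⟨m, rfl⟩ : ∃ m, n = m + 1 := ⟨n - 1, by omega⟩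
  obtain ⟨i⟩ := nonempty_rightDerived_inv (m + 1) M
  exact ((forget₂ (ModuleCat.{u} k) AddCommGrpCat.{u}).map_isZero (isZero_groupCohomology_of_higman M e he m)).of_iso i

end group

end Groth.Agent.H15Site.HS
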