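import Groth.Agent.H16Derived.GrothSS

/-!
# The Grothendieck spectral sequence with prescribed second page and abutment
-/

set_option autoImplicit false
set_option linter.style.haveILetI false
set_option linter.unusedSectionVars false
set_option backward.isDefEq.respectTransparency false
set_option backward.isDefEq.respectTransparency.types false

universe v v' v'' u u' u''

open CategoryTheory CategoryTheory.Limits

namespace Groth.Agent.H15Site.HS

variable {A : Type u} [Category.{v} A] [Abelian A] [EnoughInjectives A]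
  {B : Type u'} [Category.{v'} B] [Abelian B] [EnoughInjectives B]
  {C : Type u''} [Category.{v''} C] [Abelian C]

open H16Derived H16Derived.GrothSS in
theorem exists_spectralSequence_general (T : A ⥤ B) [T.Additive] (S : B ⥤ C) [S.Additive] [PreservesFiniteLimits S]
    (hT : ∀ Q : A, Injective Q → ∀ q : ℕ, 0 < q → IsZero ((S.rightDerived q).obj (T.obj Q))) (a : A)
    (E₂ : ℤ → ℤ → C) (H : ℤ → C)
    (he : ∀ p q : ℕ, Nonempty ((S.rightDerived p).obj ((T.rightDerived q).obj a) ≅ E₂ p q))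
    (hz : ∀ p q : ℤ, ¬ (0 ≤ p ∧ 0 ≤ q) → IsZero (E₂ p q))
    (heH : ∀ n : ℕ, Nonempty (((T ⋙ S).rightDerived n).obj a ≅ H n))
    (hH : ∀ n : ℤ, n < 0 → IsZero (H n)) :
    ∃ (E : E₂CohomologicalSpectralSequence C) (ab : SpSeq.Abutment E H),
      (∀ n, ab.IsFinite n) ∧ SpSeq.IsBounded E ∧
      ∀ p q : ℤ, Nonempty ((E.page 2 le_rfl).X (p, q) ≅ E₂ p q) := by
  letI := HasDerivedCategory.standard B
  letI := HasDerivedCategory.standard C
  let I := injectiveResolution a
  let L := (T.mapHomologicalComplex (ComplexShape.up ℤ)).obj I.cochainComplex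
  haveI hL : CochainComplex.IsStrictlyGE L 0 := inferInstanceAs
    (CochainComplex.IsStrictlyGE ((T.mapHomologicalComplex (ComplexShape.up ℤ)).obj I.cochainComplex) 0)
  have hacy : ∀ i, AcyclicLES.IsAcyclic S (L.X i) := fun i k hk =>
    hT _ (inferInstanceAs (Injective (I.cochainComplex.X i))) k hk
  let X : DerivedCategory.Plus B := DerivedCategory.Plus.Q.obj ⟨L, 0, hL⟩
  let eX : DerivedCategory.Plus.ι.obj X ≅ DerivedCategory.Q.obj L :=
    (DerivedCategory.quotientCompQhIso B).app L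
  haveI : X.IsGE 0 := by
    rw [← DerivedCategory.Plus.isGE_ι_obj_iff]
    haveI : (DerivedCategory.Q.obj L).IsGE 0 := inferInstance
    exact DerivedCategory.TStructure.t.isGE_of_iso eX.symm 0
  haveI := isFirstQuadrant S X
  refine H15Site.SpAbutment.exists_spectralSequence (spObj S X) E₂ (fun p q hp hq => ?_) hz (fun n => ?_)
  · obtain ⟨p, rfl⟩ := Int.eq_ofNat_of_zero_le hp
    obtain ⟨q, rfl⟩ := Int.eq_ofNat_of_zero_le hq
    obtain ⟨e₁⟩ := nonempty_E₂ S X p q
    obtain ⟨e₂⟩ := AcyclicLES.nonempty_rightDerived_iso T I.cochainComplex 0 (fun k => inferInstance) I.ι' q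
    exact ⟨e₁ ≪≫ (S.rightDerived p).mapIso ((DerivedCategory.homologyFunctor B (q : ℤ)).mapIso eX ≪≫
      (DerivedCategory.homologyFunctorFactors B (q : ℤ)).app L ≪≫ e₂.symm) ≪≫ (he p q).some⟩
  · by_cases hn : 0 ≤ n
    · obtain ⟨k, rfl⟩ := Int.eq_ofNat_of_zero_le hn
      obtain ⟨e₁⟩ := nonempty_total S X 0 eX hacy (k : ℤ)
      obtain ⟨e₂⟩ := AcyclicLES.nonempty_rightDerived_iso (T ⋙ S) I.cochainComplex 0
        (fun j => inferInstance) I.ι' k
      exact ⟨e₁ ≪≫ e₂.symm ≪≫ (heH k).some⟩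
    · exact ⟨(H15Site.SpAbutment.isZero_neg (spObj S X) n (not_le.1 hn)).iso (hH n (not_le.1 hn))⟩

end Groth.Agent.H15Site.HS
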