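import Groth.Agent.H15Site.HS.Sections
import Groth.Agent.H15Site.HS.GeneralSS

/-!
# The Hochschild–Serre spectral sequence
-/

set_option autoImplicit false
set_option linter.style.haveILetI false
set_option linter.unusedSectionVars false
set_option backward.isDefEq.respectTransparency false
set_option backward.isDefEq.respectTransparency.types false

universe u

open CategoryTheory CategoryTheory.Limits AlgebraicGeometry Opposite Abelian

namespace Groth.Agent.H15Site.HS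

attribute [local instance 10000] Rep.hV2

open H18Et

variable {X : Scheme.{u}} (Y : X.Etale) {G : Type (u + 1)} [Group G] (σ : G →* Aut Y)

/-- The free sheaf on `Y`. -/
noncomputable abbrev ZY : EtCoh.Ab X := (FreeSheaf.free X).obj Y

/-- The action on `Ext` groups out of the free sheaf. -/
noncomputable def extAct (F : EtCoh.Ab X) (n : ℕ) :
    Representation (ULift.{u + 1} ℤ) G (Ext (ZY Y) F n) where
  toFun g := lin ((Ext.mk₀ ((FreeSheaf.free X).map (σ g).inv)).precomp F (zero_add n))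
  map_one' := by
    ext x
    show (Ext.mk₀ ((FreeSheaf.free X).map (σ 1).inv)).comp x (zero_add n) = x
    rw [sigma_inv_one, CategoryTheory.Functor.map_id, Ext.mk₀_id_comp]
  map_mul' g h := by
    ext x
    show (Ext.mk₀ ((FreeSheaf.free X).map (σ (g * h)).inv)).comp x (zero_add n) =
      (Ext.mk₀ ((FreeSheaf.free X).map (σ g).inv)).comp
        ((Ext.mk₀ ((FreeSheaf.free X).map (σ h).inv)).comp x (zero_add n)) (zero_add n)
    rw [sigma_inv_mul, Functor.map_comp, Ext.mk₀_comp_mk₀_assoc]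

/-- `Ext^n(ℤ[Y], F)` as a representation. -/
noncomputable abbrev extRep (F : EtCoh.Ab X) (n : ℕ) : Rep.{u + 1} (ULift.{u + 1} ℤ) G := Rep.of (extAct Y σ F n)

theorem homEquiv_add (F : EtCoh.Ab X) (φ ψ : ZY Y ⟶ F) :
    FreeSheaf.homEquiv Y F (φ + ψ) = FreeSheaf.homEquiv Y F φ + FreeSheaf.homEquiv Y F ψ := by
  rw [← Category.id_comp (φ + ψ), ← Category.id_comp φ, ← Category.id_comp ψ, FreeSheaf.homEquiv_comp,
    FreeSheaf.homEquiv_comp, FreeSheaf.homEquiv_comp, Category.id_comp φ, Category.id_comp ψ]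
  rfl

/-- Degree zero is sections. -/
noncomputable def zeroToSect (F : EtCoh.Ab X) : extRep Y σ F 0 ⟶ (sectRep Y σ).obj F :=
  Rep.ofHom ⟨lin (AddMonoidHom.mk' (fun x => FreeSheaf.homEquiv Y F (Ext.addEquiv₀ x))
    fun a b => (congrArg (FreeSheaf.homEquiv Y F) (map_add Ext.addEquiv₀ a b)).trans (homEquiv_add Y F _ _)), fun g => by
    ext x
    show FreeSheaf.homEquiv Y F (Ext.addEquiv₀ ((Ext.mk₀ _).comp x (zero_add 0))) =
      (F.obj.map (σ g).inv.op).hom (FreeSheaf.homEquiv Y F (Ext.addEquiv₀ x))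
    obtain ⟨φ, rfl⟩ := (Ext.mk₀_bijective _ _).2 x
    rw [Ext.mk₀_comp_mk₀]
    have h : ∀ ψ : ZY Y ⟶ F, Ext.addEquiv₀ (Ext.mk₀ ψ) = ψ := fun ψ => Ext.addEquiv₀.apply_symm_apply ψ
    rw [h, h, FreeSheaf.homEquiv_map]⟩

theorem bijective_zeroToSect (F : EtCoh.Ab X) : Function.Bijective (zeroToSect Y σ F).hom :=
  (FreeSheaf.homEquiv Y F).bijective.comp Ext.addEquiv₀.bijective

theorem isIso_of_bijective {A B : Rep.{u + 1} (ULift.{u + 1} ℤ) G} (f : A ⟶ B) (h : Function.Bijective f.hom) :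
    IsIso f := by
  haveI : Mono f := (Rep.mono_iff_injective f).2 h.1
  haveI : Epi f := (Rep.epi_iff_surjective f).2 h.2
  exact isIso_of_mono_of_epi f

variable {S : ShortComplex (EtCoh.Ab X)} (hS : S.ShortExact)

/-- The connecting map. -/
noncomputable def extδ (n : ℕ) : extRep Y σ S.X₃ n ⟶ extRep Y σ S.X₁ (n + 1) :=
  Rep.ofHom ⟨lin (hS.extClass.postcomp (ZY Y) (rfl : n + 1 = n + 1)), fun g => by
    ext x
    show ((Ext.mk₀ _).comp x (zero_add n)).comp hS.extClass rfl =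
      (Ext.mk₀ _).comp (x.comp hS.extClass rfl) (zero_add (n + 1))
    exact Ext.comp_assoc _ _ _ (zero_add n) rfl (by omega)⟩

theorem surjective_extδ [Injective S.X₂] (Z : EtCoh.Ab X) (n : ℕ) :
    Function.Surjective fun x : Ext Z S.X₃ n => x.comp hS.extClass (rfl : n + 1 = n + 1) := fun y => by
  obtain ⟨x, hx⟩ := Ext.covariant_sequence_exact₁ Z hS y (Ext.eq_zero_of_injective _) rfl
  exact ⟨x, hx⟩

theorem injective_extδ [Injective S.X₂] (Z : EtCoh.Ab X) (n : ℕ) (x : Ext Z S.X₃ (n + 1))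
    (hx : x.comp hS.extClass (rfl : n + 1 + 1 = n + 1 + 1) = 0) : x = 0 := by
  obtain ⟨y, rfl⟩ := Ext.covariant_sequence_exact₃ Z hS x rfl hx
  rw [Ext.eq_zero_of_injective y, Ext.zero_comp]

include hS in
theorem nonempty_extRep_succ [Injective S.X₂] (n : ℕ) :
    Nonempty (extRep Y σ S.X₁ (n + 2) ≅ extRep Y σ S.X₃ (n + 1)) := by
  haveI : IsIso (extδ Y σ hS (n + 1)) := isIso_of_bijective _
    ⟨(injective_iff_map_eq_zero (hS.extClass.postcomp (ZY Y) (rfl : n + 1 + 1 = n + 1 + 1))).2 fun x hx =>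
      injective_extδ hS (ZY Y) n x hx, surjective_extδ hS (ZY Y) (n + 1)⟩
  exact ⟨(asIso (extδ Y σ hS (n + 1))).symm⟩

include hS in
theorem nonempty_extRep_one [Injective S.X₂] :
    Nonempty (extRep Y σ S.X₁ 1 ≅ cokernel ((sectRep Y σ).map S.g)) := by
  haveI : IsIso (zeroToSect Y σ S.X₃) := isIso_of_bijective _ (bijective_zeroToSect Y σ S.X₃)
  let δ' := CategoryTheory.inv (zeroToSect Y σ S.X₃) ≫ extδ Y σ hS 0
  have hδ : ∀ φ : ZY Y ⟶ S.X₃, δ'.hom (FreeSheaf.homEquiv Y S.X₃ φ) = (Ext.mk₀ φ).comp hS.extClass (zero_add 1) := by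
    intro φ
    have h : (zeroToSect Y σ S.X₃).hom (Ext.mk₀ φ) = FreeSheaf.homEquiv Y S.X₃ φ :=
      congrArg (FreeSheaf.homEquiv Y S.X₃) (Ext.addEquiv₀.apply_symm_apply φ)
    rw [← h]
    refine Eq.trans ?_ (rfl : (extδ Y σ hS 0).hom (Ext.mk₀ φ) = _)
    exact congrArg (fun k => k.hom (Ext.mk₀ φ)) (IsIso.hom_inv_id_assoc (zeroToSect Y σ S.X₃) (extδ Y σ hS 0))
  have hz : (sectRep Y σ).map S.g ≫ δ' = 0 := by
    ext s
    obtain ⟨ψ, rfl⟩ := (FreeSheaf.homEquiv Y S.X₂).surjective s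
    show δ'.hom (S.g.hom.app (op Y) (FreeSheaf.homEquiv Y S.X₂ ψ)) = 0
    rw [← FreeSheaf.homEquiv_comp, hδ, ← Ext.mk₀_comp_mk₀, Ext.comp_assoc_of_second_deg_zero,
      hS.comp_extClass, Ext.comp_zero]
  let sc := ShortComplex.mk _ δ' hz
  have hex : sc.Exact := by
    refine (ShortComplex.exact_map_iff_of_faithful sc (forget₂ (Rep.{u + 1} (ULift.{u + 1} ℤ) G)
      (ModuleCat.{u + 1} (ULift.{u + 1} ℤ)))).1 ((ShortComplex.moduleCat_exact_iff _).2 fun s hs => ?_)
    obtain ⟨φ, rfl⟩ := (FreeSheaf.homEquiv Y S.X₃).surjective s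
    change δ'.hom (FreeSheaf.homEquiv Y S.X₃ φ) = 0 at hs
    rw [hδ] at hs
    obtain ⟨y, hy⟩ := Ext.covariant_sequence_exact₃ (ZY Y) hS (Ext.mk₀ φ) (zero_add 1) hs
    obtain ⟨ψ, rfl⟩ := (Ext.mk₀_bijective _ _).2 y
    rw [Ext.mk₀_comp_mk₀] at hy
    refine ⟨FreeSheaf.homEquiv Y S.X₂ ψ, ?_⟩
    show S.g.hom.app (op Y) _ = _
    rw [← FreeSheaf.homEquiv_comp, (Ext.mk₀_bijective _ _).1 hy]
  haveI : Epi δ' := by
    haveI : Epi (extδ Y σ hS 0) := (Rep.epi_iff_surjective _).2 (surjective_extδ hS (ZY Y) 0)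
    exact epi_comp _ _
  haveI : Epi sc.g := ‹Epi δ'›
  exact ⟨hex.gIsCokernel.coconePointUniqueUpToIso (colimit.isColimit (parallelPair sc.f 0))⟩

theorem nonempty_rightDerived_sectRep (n : ℕ) (F : EtCoh.Ab X) :
    Nonempty (((sectRep Y σ).rightDerived n).obj F ≅ extRep Y σ F n) := by
  refine nonempty_rightDerived_iso (sectRep Y σ) (fun n F => extRep Y σ F n) (fun F => ?_)
    (fun S hS hI => nonempty_extRep_one Y σ hS) (fun n S hS hI => nonempty_extRep_succ Y σ hS n) n F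
  haveI : IsIso (zeroToSect Y σ F) := isIso_of_bijective _ (bijective_zeroToSect Y σ F)
  exact ⟨asIso (zeroToSect Y σ F)⟩

/-! ### The total functor -/

variable [Fintype G] (hY : Function.Surjective Y.hom.base)
  (hgal : IsColimit (Cofan.mk (Y ⨯ Y) (fun g : G => prod.lift (𝟙 Y) (σ g).hom)))

/-- Degree zero cohomology is global sections. -/
noncomputable def hZero (F : EtCoh.Ab X) : AddCommGrpCat.of (EtCoh.H X F 0) ≅ (EtCore.gsec X).obj F :=
  (Sheaf.H.equiv₀ F (EtCore.topIsTerminal X)).toAddCommGrpIso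

theorem nonempty_H_one (S : ShortComplex (EtCoh.Ab X)) (hS : S.ShortExact) [Injective S.X₂] :
    Nonempty (AddCommGrpCat.of (EtCoh.H X S.X₁ 1) ≅ cokernel ((EtCore.gsec X).map S.g)) := by
  let δ' : AddCommGrpCat.of (EtCoh.H X S.X₃ 0) ⟶ AddCommGrpCat.of (EtCoh.H X S.X₁ 1) :=
    AddCommGrpCat.ofHom (hS.extClass.postcomp (EtCoh.const X ℤ) (zero_add 1))
  let g' : AddCommGrpCat.of (EtCoh.H X S.X₂ 0) ⟶ AddCommGrpCat.of (EtCoh.H X S.X₃ 0) :=
    AddCommGrpCat.ofHom ((Ext.mk₀ S.g).postcomp (EtCoh.const X ℤ) (add_zero 0))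
  have hex := Ext.covariant_sequence_exact₃' (EtCoh.const X ℤ) hS 0 1 (zero_add 1)
  haveI : Epi δ' := (AddCommGrpCat.epi_iff_surjective _).2 (surjective_extδ hS _ 0)
  let sc : ShortComplex AddCommGrpCat.{u + 1} := ShortComplex.mk g' δ' (by
    ext x
    show (x.comp (Ext.mk₀ S.g) (add_zero 0)).comp hS.extClass (zero_add 1) = 0
    rw [Ext.comp_assoc_of_second_deg_zero, hS.comp_extClass, Ext.comp_zero])
  have hex' : sc.Exact := hex
  haveI : Epi sc.g := ‹Epi δ'›
  refine ⟨hex'.gIsCokernel.coconePointUniqueUpToIso (cokernelIsCokernel _) ≪≫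
    cokernel.mapIso _ _ (hZero S.X₂) (hZero S.X₃) ?_⟩
  ext x
  exact (Sheaf.H.equiv₀_naturality (EtCore.topIsTerminal X) S.g x).symm

include hY hgal in
theorem nonempty_rightDerived_total (n : ℕ) (F : EtCoh.Ab X) :
    Nonempty (((sectRep Y σ ⋙ inv (ULift.{u + 1} ℤ) G).rightDerived n).obj F ≅ AddCommGrpCat.of (EtCoh.H X F n)) := by
  haveI := isIso_toInv Y σ hY hgal
  let e := asIso (toInv Y σ)
  refine nonempty_rightDerived_iso (sectRep Y σ ⋙ inv (ULift.{u + 1} ℤ) G)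
    (fun n F => AddCommGrpCat.of (EtCoh.H X F n)) (fun F => ⟨hZero F ≪≫ e.app F⟩) (fun S hS hI => ?_)
    (fun n S hS hI => ?_) n F
  · obtain ⟨a⟩ := nonempty_H_one S hS
    exact ⟨a ≪≫ cokernel.mapIso _ _ (e.app S.X₂) (e.app S.X₃) (e.hom.naturality S.g)⟩
  · let δ' := hS.extClass.postcomp (EtCoh.const X ℤ) (rfl : n + 1 + 1 = n + 1 + 1)
    exact ⟨(AddEquiv.ofBijective δ' ⟨(injective_iff_map_eq_zero δ').2 fun x hx =>
      injective_extδ hS _ n x hx, surjective_extδ hS _ (n + 1)⟩).symm.toAddCommGrpIso⟩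

/-! ### Comparison with cohomology of the covering -/

section compare

/-- The structure map, at its plain type. -/
noncomputable abbrev str : Y.left ⟶ X := Y.hom

variable [Etale (str Y)]

/-- `Y` is the object attached to its structure map. -/
noncomputable def objIso : FreeSheaf.obj (str Y) ≅ Y where
  hom := MorphismProperty.Over.homMk (𝟙 Y.left) (by
    show 𝟙 _ ≫ (str Y) = 𝟙 _ ≫ (str Y)
    rfl)
  inv := MorphismProperty.Over.homMk (𝟙 Y.left) (by
    show 𝟙 _ ≫ 𝟙 _ ≫ (str Y) = (str Y)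
    rw [Category.id_comp, Category.id_comp])
  hom_inv_id := MorphismProperty.Over.Hom.ext (Category.id_comp _)
  inv_hom_id := MorphismProperty.Over.Hom.ext (Category.id_comp _)

variable [PreservesFiniteLimits (EtCoh.pull (str Y))] [∀ g : G, PreservesFiniteLimits (EtCoh.pull (σ g).inv.left)]

/-- The comparison with the cohomology of `Y`. -/
noncomputable def psiY (F : EtCoh.Ab X) (n : ℕ) :
    Ext (ZY Y) F n →+ EtCoh.H Y.left ((EtCoh.pull (str Y)).obj F) n :=
  (FreeSheaf.phi (str Y) F n).comp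
    ((Ext.mk₀ ((FreeSheaf.free X).map (objIso Y).hom)).precomp F (zero_add n))

theorem bijective_psiY (F : EtCoh.Ab X) (n : ℕ) : Function.Bijective (psiY Y F n) := by
  refine (FreeSheaf.phi_bijective (str Y) F n).comp (Function.bijective_iff_has_inverse.2
    ⟨fun x => (Ext.mk₀ ((FreeSheaf.free X).map (objIso Y).inv)).comp x (zero_add n), fun x => ?_, fun x => ?_⟩)
  · show (Ext.mk₀ _).comp ((Ext.mk₀ _).comp x (zero_add n)) (zero_add n) = x
    rw [Ext.mk₀_comp_mk₀_assoc, ← Functor.map_comp, Iso.inv_hom_id, CategoryTheory.Functor.map_id, Ext.mk₀_id_comp]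
  · show (Ext.mk₀ _).comp ((Ext.mk₀ _).comp x (zero_add n)) (zero_add n) = x
    rw [Ext.mk₀_comp_mk₀_assoc, ← Functor.map_comp, Iso.hom_inv_id, CategoryTheory.Functor.map_id, Ext.mk₀_id_comp]

theorem psiY_act (F : EtCoh.Ab X) (n : ℕ) (g : G) (x : Ext (ZY Y) F n) :
    psiY Y F n ((extAct Y σ F n) g x) =
      EtCore.HpullVia (σ g).inv.left (str Y) (str Y) (MorphismProperty.Over.w (σ g).inv) F n (psiY Y F n x) := by
  have w : (σ g).inv.left ≫ (str Y) = (str Y) := MorphismProperty.Over.w (σ g).inv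
  haveI : Etale (σ g).inv.left := by
    haveI : Etale ((σ g).inv.left ≫ (str Y)) := by rw [w]; infer_instance
    exact MorphismProperty.of_postcomp (W := @Etale) (W' := @Etale) _ (str Y) ‹_› ‹_›
  show FreeSheaf.phi (str Y) F n ((Ext.mk₀ _).comp ((Ext.mk₀ _).comp x (zero_add n)) (zero_add n)) = _
  refine Eq.trans ?_ (HpullVia_phi (str Y) (σ g).inv.left (str Y) w F n _).symm
  refine congrArg (FreeSheaf.phi (str Y) F n) ?_
  show _ = (Ext.mk₀ _).comp ((Ext.mk₀ _).comp x (zero_add n)) (zero_add n)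
  rw [Ext.mk₀_comp_mk₀_assoc, Ext.mk₀_comp_mk₀_assoc, ← Functor.map_comp, ← Functor.map_comp]
  refine congrArg (fun k => (Ext.mk₀ ((FreeSheaf.free X).map k)).comp x (zero_add n)) ?_
  exact MorphismProperty.Over.Hom.ext ((Category.id_comp _).trans (Category.comp_id _).symm)

/-- A representation equivariantly identified with cohomology is the `Ext` representation. -/
noncomputable def repHom (F : EtCoh.Ab X) (n : ℕ) (A : Rep.{u + 1} (ULift.{u + 1} ℤ) G)
    (e : A.V ≃+ EtCoh.H Y.left ((EtCoh.pull (str Y)).obj F) n)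
    (he : ∀ (g : G) (v : A.V), e (A.ρ g v) =
      EtCore.HpullVia (σ g).inv.left (str Y) (str Y) (MorphismProperty.Over.w (σ g).inv) F n (e v)) :
    extRep Y σ F n ⟶ A :=
  Rep.ofHom
    ⟨{ toFun := fun x => e.symm (psiY Y F n x)
       map_add' := fun a b => by rw [map_add, map_add]
       map_smul' := fun r x => by
         have hr : ((r.down : ℤ) : ULift.{u + 1} ℤ) = r := ULift.ext _ _ (by simp)
         rw [← hr, RingHom.id_apply, Int.cast_smul_eq_zsmul, Int.cast_smul_eq_zsmul, map_zsmul, map_zsmul] },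
     fun g => by
      ext x
      show e.symm (psiY Y F n (extAct Y σ F n g x)) = A.ρ g (e.symm (psiY Y F n x))
      rw [AddEquiv.symm_apply_eq, he, AddEquiv.apply_symm_apply, psiY_act]⟩

include hY hgal in
theorem exists_spectralSequence (F : EtCoh.Ab X) (A : ℕ → Rep.{u + 1} (ULift.{u + 1} ℤ) G)
    (e : ∀ q : ℕ, (A q).V ≃+ EtCoh.H Y.left ((EtCoh.pull Y.hom).obj F) q)
    (he : ∀ (q : ℕ) (g : G) (v : (A q).V),
      e q ((A q).ρ g v) =
        EtCore.HpullVia (σ g).inv.left Y.hom Y.hom (MorphismProperty.Over.w (σ g).inv) F q (e q v)) :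
    ∃ (E : E₂CohomologicalSpectralSequence AddCommGrpCat.{u + 1})
      (a : SpSeq.Abutment E (fun n : ℤ =>
        if 0 ≤ n then AddCommGrpCat.of (EtCoh.H X F n.toNat) else AddCommGrpCat.of PUnit.{u + 2})),
      (∀ n, a.IsFinite n) ∧ SpSeq.IsBounded E ∧
      ∀ p q : ℤ, Nonempty ((E.page 2 le_rfl).X (p, q) ≅
        (if 0 ≤ p ∧ 0 ≤ q then AddCommGrpCat.of (groupCohomology (A q.toNat) p.toNat)
         else AddCommGrpCat.of PUnit.{u + 2})) := by
  refine exists_spectralSequence_general (sectRep Y σ) (inv (ULift.{u + 1} ℤ) G)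
    (fun Q hQ q hq => isZero_rightDerived_inv_sect Y σ hY hgal Q hQ q hq) F
    (fun p q => if 0 ≤ p ∧ 0 ≤ q then AddCommGrpCat.of (groupCohomology (A q.toNat) p.toNat)
      else AddCommGrpCat.of PUnit.{u + 2})
    (fun n => if 0 ≤ n then AddCommGrpCat.of (EtCoh.H X F n.toNat) else AddCommGrpCat.of PUnit.{u + 2})
    (fun p q => ?_) (fun p q h => ?_) (fun n => ?_) (fun n hn => ?_)
  · rw [if_pos ⟨Int.natCast_nonneg p, Int.natCast_nonneg q⟩, Int.toNat_natCast, Int.toNat_natCast]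
    obtain ⟨a⟩ := nonempty_rightDerived_sectRep Y σ q F
    haveI : IsIso (repHom Y σ F q (A q) (e q) (he q)) :=
      isIso_of_bijective _ ((e q).symm.bijective.comp (bijective_psiY Y F q))
    obtain ⟨b⟩ := nonempty_rightDerived_inv p (A q)
    exact ⟨((inv (ULift.{u + 1} ℤ) G).rightDerived p).mapIso
      (a ≪≫ asIso (repHom Y σ F q (A q) (e q) (he q))) ≪≫ b⟩
  · rw [if_neg h]
    exact AddCommGrpCat.isZero_of_subsingleton _
  · rw [if_pos (Int.natCast_nonneg n), Int.toNat_natCast]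
    exact nonempty_rightDerived_total Y σ hY hgal n F
  · rw [if_neg (not_le.2 hn)]
    exact AddCommGrpCat.isZero_of_subsingleton _

end compare

end Groth.Agent.H15Site.HS
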