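import Groth.Agent.H18Et.RestrictionClass

/-!
# Relative pullback along any morphism of the small etale site

`H18Et.FreeSheaf.HpullVia_phi` without the monomorphism hypothesis.
-/

set_option autoImplicit false
set_option linter.style.haveILetI false
set_option linter.unusedSectionVars false
set_option backward.isDefEq.respectTransparency false
set_option backward.isDefEq.respectTransparency.types false

universe u

open CategoryTheory CategoryTheory.Limits AlgebraicGeometry Opposite Abelian

namespace Groth.Agent.H15Site.HS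

open H18Et H18Et.FreeSheaf

variable {X V W : Scheme.{u}} (t : V ⟶ X) [Etale t] (f : W ⟶ V) [Etale f]

/-- Composites of composition functors. -/
noncomputable def psi (U : W.Etale) :
    (EtaleRestrict.emap (f ≫ t)).obj U ⟶ (EtaleRestrict.emap t).obj ((EtaleRestrict.emap f).obj U) :=
  MorphismProperty.Over.homMk (𝟙 U.left) (by
    show 𝟙 _ ≫ (U.hom ≫ f) ≫ t = U.hom ≫ f ≫ t
    rw [Category.id_comp, Category.assoc])

/-- Restriction twice is restriction along the composite. -/
noncomputable def kappa (F : EtCoh.Ab X) :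
    (EtaleRestrict.res f).obj ((EtaleRestrict.res t).obj F) ⟶ (EtaleRestrict.res (f ≫ t)).obj F :=
  ObjectProperty.homMk
    { app := fun U => F.obj.map (psi t f U.unop).op
      naturality := fun U U' g => by
        refine (F.obj.map_comp _ _).symm.trans (Eq.trans (congrArg F.obj.map ?_) (F.obj.map_comp _ _))
        exact Quiver.Hom.unop_inj (MorphismProperty.Over.Hom.ext
          (show 𝟙 _ ≫ g.unop.left = g.unop.left ≫ 𝟙 _ by rw [Category.id_comp, Category.comp_id])) }

/-- The identification of the inverse image along a composite with restriction. -/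
theorem pullIso_comp (F : EtCoh.Ab X) :
    (EtaleRestrict.pullIso (f ≫ t)).hom.app F =
      (EtCore.pullComp f t).hom.app F ≫ (EtCoh.pull f).map ((EtaleRestrict.pullIso t).hom.app F) ≫
        (EtaleRestrict.pullIso f).hom.app ((EtaleRestrict.res t).obj F) ≫ kappa t f F := by
  let P := EtaleRestrict.res t
  let adj' := ((EtCoh.pullPushAdj t).comp (EtCoh.pullPushAdj f)).ofNatIsoRight (EtCoh.pushComp t f)
  apply ((EtCoh.pullPushAdj (f ≫ t)).homEquiv _ _).injective
  rw [Adjunction.homEquiv_unit, Adjunction.homEquiv_unit]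
  have h1 : (EtCoh.pullPushAdj (f ≫ t)).unit.app F ≫
      (EtCoh.push (f ≫ t)).map ((EtaleRestrict.pullIso (f ≫ t)).hom.app F) =
        (EtaleRestrict.resPushAdj (f ≫ t)).unit.app F :=
    Adjunction.unit_leftAdjointUniq_hom_app _ _ F
  have h2 : (EtCoh.pullPushAdj (f ≫ t)).unit.app F ≫ (EtCoh.push (f ≫ t)).map ((EtCore.pullComp f t).hom.app F) =
      adj'.unit.app F :=
    Adjunction.unit_leftAdjointUniq_hom_app _ _ F
  have h3 : adj'.unit.app F = (EtCoh.pullPushAdj t).unit.app F ≫
      (EtCoh.push t).map ((EtCoh.pullPushAdj f).unit.app ((EtCoh.pull t).obj F)) ≫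
        (EtCoh.pushComp t f).hom.app ((EtCoh.pull f).obj ((EtCoh.pull t).obj F)) := by
    simp [adj', Adjunction.ofNatIsoRight, Adjunction.comp]
  have h4 : (EtCoh.pullPushAdj t).unit.app F ≫ (EtCoh.push t).map ((EtaleRestrict.pullIso t).hom.app F) =
      (EtaleRestrict.resPushAdj t).unit.app F :=
    Adjunction.unit_leftAdjointUniq_hom_app _ _ F
  have h5 : (EtCoh.pullPushAdj f).unit.app (P.obj F) ≫
      (EtCoh.push f).map ((EtaleRestrict.pullIso f).hom.app (P.obj F)) =
        (EtaleRestrict.resPushAdj f).unit.app (P.obj F) :=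
    Adjunction.unit_leftAdjointUniq_hom_app _ _ _
  let a := (EtCoh.pull f).map ((EtaleRestrict.pullIso t).hom.app F) ≫
        (EtaleRestrict.pullIso f).hom.app (P.obj F)
  have h6 : (EtCoh.pullPushAdj f).unit.app ((EtCoh.pull t).obj F) ≫ (EtCoh.push f).map a =
      (EtaleRestrict.pullIso t).hom.app F ≫ (EtaleRestrict.resPushAdj f).unit.app (P.obj F) := by
    have hn := (EtCoh.pullPushAdj f).unit.naturality ((EtaleRestrict.pullIso t).hom.app F)
    rw [← h5]
    simp only [a, Functor.map_comp, Functor.id_map, Functor.comp_map] at hn ⊢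
    rw [← Category.assoc, ← hn, Category.assoc]
  have h7 : (EtCoh.pullPushAdj (f ≫ t)).unit.app F ≫
      (EtCoh.push (f ≫ t)).map ((EtCore.pullComp f t).hom.app F ≫ a) =
        (EtaleRestrict.resPushAdj t).unit.app F ≫ (EtCoh.push t).map ((EtaleRestrict.resPushAdj f).unit.app (P.obj F)) ≫
          (EtCoh.pushComp t f).hom.app _ := by
    rw [Functor.map_comp, ← Category.assoc, h2, h3, ← h4]
    simp only [Category.assoc]
    have hn : (EtCoh.push t).map ((EtCoh.push f).map a) ≫ (EtCoh.pushComp t f).hom.app _ =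
        (EtCoh.pushComp t f).hom.app _ ≫ (EtCoh.push (f ≫ t)).map a :=
      (EtCoh.pushComp t f).hom.naturality a
    rw [← hn, ← (EtCoh.push t).map_comp_assoc, ← (EtCoh.push t).map_comp_assoc, h6]
  have h8 : (EtaleRestrict.resPushAdj (f ≫ t)).unit.app F =
      ((EtaleRestrict.resPushAdj t).unit.app F ≫ (EtCoh.push t).map ((EtaleRestrict.resPushAdj f).unit.app (P.obj F)) ≫
        (EtCoh.pushComp t f).hom.app _) ≫ (EtCoh.push (f ≫ t)).map (kappa t f F) := by
    apply ObjectProperty.hom_ext
    ext U : 2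
    obtain ⟨U⟩ := U
    simp [EtaleRestrict.resPushAdj, EtCoh.pushComp, kappa, P]
    simp only [← F.obj.map_comp, ← op_comp]
    congr 2
    refine MorphismProperty.Over.Hom.ext ?_
    simp [psi, EtaleRestrict.emapAdj, EtaleRestrict.emap, EtCoh.bc]
    exact ((Category.id_comp _).trans
      (MorphismProperty.Over.pullbackComp_left_fst_fst (P := EtCoh.etaleMP) (Q := ⊤) f t U)).symm
  rw [h1, h8, ← h7]
  simp only [a, P, Functor.map_comp, Category.assoc]

variable (f₀ : W ⟶ X) [Etale f₀] (w : f ≫ t = f₀)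

/-- Pullback of sections is restriction. -/
theorem res0_secIso_via (F : EtCoh.Ab X) :
    PullSections.res0 f ((EtCoh.pull t).obj F) ≫
        ((((EtCore.pullComp f t).symm ≪≫ EtCore.pullCongr w).app F).hom.hom.app (op (EtCoh.top W))) ≫
          (secIso f₀ F).hom =
      (secIso t F).hom ≫ F.obj.map (mor t f f₀ w).op := by
  subst w
  let G := (EtCoh.pull t).obj F
  let ρ : obj f ⟶ EtCoh.top V := (EtCore.topIsTerminal V).from _
  have hc := congrArg (fun k => k.hom.app (op (EtCoh.top W))) (pullIso_comp t f F)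
  have hn := congrArg (fun k => k.hom.app (op (EtCoh.top W)))
    ((EtaleRestrict.pullIso f).hom.naturality ((EtaleRestrict.pullIso t).hom.app F))
  have hi : ((EtCore.pullComp f t).inv.app F).hom.app (op (EtCoh.top W)) ≫
      ((EtCore.pullComp f t).hom.app F).hom.app (op (EtCoh.top W)) = 𝟙 _ := by
    rw [← NatTrans.comp_app, ← ObjectProperty.FullSubcategory.comp_hom]
    simp
  have hsec : ((((EtCore.pullComp f t).symm ≪≫ EtCore.pullCongr (rfl : f ≫ t = f ≫ t)).app F).hom.hom.app (op (EtCoh.top W))) ≫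
          (secIso (f ≫ t) F).hom =
      (secIso f G).hom ≫ ((EtaleRestrict.pullIso t).hom.app F).hom.app (op (obj f)) ≫
        F.obj.map (psi t f (EtCoh.top W)).op := by
    show _ ≫ ((EtaleRestrict.pullIso (f ≫ t)).hom.app F).hom.app (op (EtCoh.top W)) = _
    simp only [Iso.app_hom, Iso.trans_hom, Iso.symm_hom, EtCore.pullCongr, eqToIso_refl, Iso.refl_hom,
      Category.comp_id, NatTrans.comp_app]
    rw [hc]
    simp only [ObjectProperty.FullSubcategory.comp_hom, NatTrans.comp_app, Functor.comp_map] at hn ⊢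
    rw [reassoc_of% hi, reassoc_of% hn]
    rfl
  rw [hsec, ← Category.assoc, res0_secIso f G ρ]
  have hρ := ((EtaleRestrict.pullIso t).hom.app F).hom.naturality ρ.op
  rw [← Category.assoc, hρ, Category.assoc]
  refine congrArg (_ ≫ ·) ?_
  refine (F.obj.map_comp _ _).symm.trans (congrArg F.obj.map (Quiver.Hom.unop_inj ?_))
  refine MorphismProperty.Over.Hom.ext ?_
  have hl : ρ.left = f := ((Category.comp_id _).symm.trans (Over.w ρ.hom)).trans (Category.id_comp f)
  show 𝟙 _ ≫ ρ.left = f
  rw [Category.id_comp, hl]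

variable [PreservesFiniteLimits (EtCoh.pull f)]

/-- In degree zero the relative pullback is restriction. -/
theorem sec_HpullVia (F : EtCoh.Ab X) (y : EtCoh.H V ((EtCoh.pull t).obj F) 0) :
    sec f₀ F (EtCore.HpullVia f t f₀ w F 0 y) = F.obj.map (mor t f f₀ w).op (sec t F y) := by
  let e := (((EtCore.pullComp f t).symm ≪≫ EtCore.pullCongr w).app F).hom
  show (secIso f₀ F).hom (Sheaf.H.equiv₀ _ _ (Sheaf.H.map e 0 (EtCore.Hpull f _ 0 y))) = _
  rw [← Sheaf.H.equiv₀_naturality]
  erw [PullSections.equiv₀_Hpull]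
  exact ConcreteCategory.congr_hom (res0_secIso_via t f f₀ w F) (Sheaf.H.equiv₀ _ (EtCore.topIsTerminal V) y)

variable [PreservesFiniteLimits (EtCoh.pull t)] [PreservesFiniteLimits (EtCoh.pull f₀)]

/-- The relative pullback corresponds to precomposition with the map of free sheaves. -/
theorem HpullVia_phi (F : EtCoh.Ab X) (n : ℕ)
    (x : Ext ((free X).obj (obj t)) F n) :
    EtCore.HpullVia f t f₀ w F n (phi t F n x) =
      phi f₀ F n ((Ext.mk₀ ((free X).map (mor t f f₀ w))).comp x (zero_add n)) := by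
  let e := (EtCore.pullComp f t).symm ≪≫ EtCore.pullCongr w
  let Z := (free X).obj (obj t)
  let k := (EtCore.pullConst f ℤ).inv ≫ (EtCoh.pull f).map (eta t) ≫ e.hom.app Z
  have hk : k = eta f₀ ≫ (EtCoh.pull f₀).map ((free X).map (mor t f f₀ w)) := by
    have h := sec_HpullVia t f f₀ w Z (Ext.mk₀ (eta t))
    rw [show EtCore.HpullVia f t f₀ w Z 0 (Ext.mk₀ (eta t)) = Ext.mk₀ k by
      show ((Ext.mk₀ _).comp ((Ext.mk₀ (eta t)).mapExactFunctor (EtCoh.pull f)) (zero_add 0)).comp
        (Ext.mk₀ (e.hom.app Z)) (add_zero 0) = _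
      rw [Ext.mapExactFunctor_mk₀, Ext.mk₀_comp_mk₀, Ext.mk₀_comp_mk₀, Category.assoc]] at h
    refine (Ext.mk₀_bijective _ _).injective ((sec f₀ _).injective ?_)
    rw [h, sec_eta_comp, ← Category.comp_id ((free X).map (mor t f f₀ w)), homEquiv_map]
    refine congrArg _ ?_
    have := sec_eta_comp t (𝟙 Z)
    rw [CategoryTheory.Functor.map_id, Category.comp_id] at this
    exact this
  haveI : EnoughInjectives (EtCoh.Ab X) := inferInstance
  have hnt := H18Ext.mapExactFunctor_natTrans (EtCoh.pull t) (EtCoh.pull f) (EtCoh.pull f₀) e.hom _ n F x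
  show ((Ext.mk₀ _).comp (((Ext.mk₀ (eta t)).comp (x.mapExactFunctor (EtCoh.pull t)) (zero_add n)).mapExactFunctor
      (EtCoh.pull f)) (zero_add n)).comp (Ext.mk₀ (e.hom.app F)) (add_zero n) =
    (Ext.mk₀ (eta f₀)).comp (((Ext.mk₀ ((free X).map (mor t f f₀ w))).comp x (zero_add n)).mapExactFunctor
      (EtCoh.pull f₀)) (zero_add n)
  rw [Ext.mapExactFunctor_comp, Ext.mapExactFunctor_comp, Ext.mapExactFunctor_mk₀, Ext.mapExactFunctor_mk₀,
    Ext.mk₀_comp_mk₀_assoc, Ext.mk₀_comp_mk₀_assoc, ← hk, Ext.comp_assoc_of_third_deg_zero]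
  erw [hnt]
  rw [Ext.mk₀_comp_mk₀_assoc]
  simp only [k, Category.assoc]
  rfl

end Groth.Agent.H15Site.HS
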