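import Groth.Agent.H15Site.HS.Restrict
import Groth.Agent.H15Site.HS.Derived
import Groth.Agent.H18Et.GaloisSheaf

/-!
# Sections over a Galois covering as representations
-/

set_option autoImplicit false
set_option linter.style.haveILetI false
set_option linter.unusedSectionVars false
set_option backward.isDefEq.respectTransparency false
set_option backward.isDefEq.respectTransparency.types false

universe u

open CategoryTheory CategoryTheory.Limits AlgebraicGeometry Opposite Abelian

namespace Groth.Agent.H15Site.HS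

attribute [local instance 10000] Rep.hV2

/-- Additive maps are linear over the lifted integers. -/
def lin {A B : Type (u + 1)} [AddCommGroup A] [AddCommGroup B] (f : A →+ B) :
    A →ₗ[ULift.{u + 1} ℤ] B where
  toFun := f
  map_add' := f.map_add
  map_smul' r x := map_zsmul f r.down x

@[simp] theorem lin_apply {A B : Type (u + 1)} [AddCommGroup A] [AddCommGroup B] (f : A →+ B) (x : A) :
    lin f x = f x := rfl

variable {X : Scheme.{u}} (Y : X.Etale) {G : Type (u + 1)} [Group G] (σ : G →* Aut Y)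

theorem sigma_inv_mul (g h : G) : (σ (g * h)).inv = (σ g).inv ≫ (σ h).inv := by rw [map_mul]; rfl

theorem sigma_inv_one : (σ 1).inv = 𝟙 Y := by rw [map_one]; rfl

/-- The action on sections. -/
noncomputable def secAct (F : EtCoh.Ab X) : Representation (ULift.{u + 1} ℤ) G (F.obj.obj (op Y)) where
  toFun g := lin (F.obj.map (σ g).inv.op).hom
  map_one' := by
    ext x
    show (F.obj.map (σ 1).inv.op).hom x = x
    rw [sigma_inv_one]
    simp
  map_mul' g h := by
    ext x
    simp only [lin_apply, Module.End.mul_apply, sigma_inv_mul, op_comp, Functor.map_comp]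
    rfl

/-- Sections over `Y` as representations. -/
noncomputable def sectRep : EtCoh.Ab X ⥤ Rep.{u + 1} (ULift.{u + 1} ℤ) G where
  obj F := Rep.of (secAct Y σ F)
  map {F F'} φ := Rep.ofHom ⟨lin (φ.hom.app (op Y)).hom, fun g => by
    ext x
    exact ConcreteCategory.congr_hom (φ.hom.naturality (σ g).inv.op) x⟩

instance : (sectRep Y σ).Additive where

instance : PreservesFiniteLimits (sectRep Y σ) := by
  refine ⟨fun J _ _ => ?_⟩
  let F₁ : Rep.{u + 1} (ULift.{u + 1} ℤ) G ⥤ AddCommGrpCat.{u + 1} :=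
    forget₂ (Rep.{u + 1} (ULift.{u + 1} ℤ) G) (ModuleCat.{u + 1} (ULift.{u + 1} ℤ)) ⋙
      forget₂ (ModuleCat.{u + 1} (ULift.{u + 1} ℤ)) AddCommGrpCat.{u + 1}
  have e : sectRep Y σ ⋙ F₁ ≅ sheafToPresheaf _ _ ⋙ (evaluation _ _).obj (op Y) := Iso.refl _
  haveI : PreservesLimitsOfShape J (sectRep Y σ ⋙ F₁) := preservesLimitsOfShape_of_natIso e.symm
  haveI : ReflectsLimitsOfSize.{0, 0} (forget₂ (Rep.{u + 1} (ULift.{u + 1} ℤ) G) (ModuleCat.{u + 1} (ULift.{u + 1} ℤ))) :=
    reflectsLimitsOfSize_shrink.{0, u + 1, 0, u + 1} _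
  haveI : ReflectsLimitsOfSize.{0, 0} (forget₂ (ModuleCat.{u + 1} (ULift.{u + 1} ℤ)) AddCommGrpCat.{u + 1}) :=
    reflectsLimitsOfSize_shrink.{0, u + 1, 0, u + 1} _
  haveI : ReflectsLimitsOfShape J F₁ := inferInstance
  exact preservesLimitsOfShape_of_reflects_of_preserves (sectRep Y σ) F₁

/-! ### Invariants are global sections -/

/-- The restriction from the final object to the invariants. -/
noncomputable def toInv : EtCore.gsec X ⟶ sectRep Y σ ⋙ inv (ULift.{u + 1} ℤ) G where
  app F := AddCommGrpCat.ofHom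
    { toFun := fun s => (⟨(F.obj.map ((EtCore.topIsTerminal X).from Y).op).hom s, fun g => by
        show (F.obj.map (σ g).inv.op).hom ((F.obj.map _).hom s) = (F.obj.map _).hom s
        rw [← ConcreteCategory.comp_apply, ← Functor.map_comp, ← op_comp, IsTerminal.comp_from]⟩ :
          (secAct Y σ F).invariants)
      map_zero' := Subtype.ext (map_zero _)
      map_add' := fun a b => Subtype.ext (map_add _ a b) }
  naturality {F F'} φ := by
    ext s
    exact Subtype.ext (ConcreteCategory.congr_hom (φ.hom.naturality ((EtCore.topIsTerminal X).from Y).op) s).symm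

variable [Fintype G] (hY : Function.Surjective Y.hom.base)
  (hgal : IsColimit (Cofan.mk (Y ⨯ Y) (fun g : G => prod.lift (𝟙 Y) (σ g).hom)))

/-- A copy of the group in the small universe. -/
noncomputable def shrinkσ : Shrink.{u} G →* Aut Y := σ.comp (Shrink.mulEquiv.{u} (α := G)).toMonoidHom

/-- The colimit, indexed by the small copy. -/
noncomputable def hgalShrink :
    IsColimit (Cofan.mk (Y ⨯ Y) (fun g : Shrink.{u} G => prod.lift (𝟙 Y) (shrinkσ Y σ g).hom)) :=
  mkCofanColimit _ (fun t => Cofan.IsColimit.desc hgal fun g =>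
      t.inj (equivShrink.{u} G g))
    (fun t g => by
      obtain ⟨g, rfl⟩ := (equivShrink.{u} G).surjective g
      refine Eq.trans ?_ (Cofan.IsColimit.fac hgal (fun g => t.inj (equivShrink.{u} G g)) g)
      simp [shrinkσ, Shrink.mulEquiv, Equiv.mulEquiv])
    fun t m hm => Cofan.IsColimit.hom_ext hgal _ _ fun g => by
      rw [Cofan.IsColimit.fac]
      refine Eq.trans ?_ (hm (equivShrink.{u} G g))
      simp [shrinkσ, Shrink.mulEquiv, Equiv.mulEquiv]

include hY hgal in
theorem isIso_toInv : IsIso (toInv Y σ) := by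
  haveI : ∀ F, IsIso ((toInv Y σ).app F) := fun F => by
    rw [ConcreteCategory.isIso_iff_bijective]
    obtain ⟨hi, hr⟩ := H18Et.GaloisSheaf.sections_eq_invariants (shrinkσ Y σ) hY (hgalShrink Y σ hgal) F
    refine ⟨fun a b h => hi (congrArg Subtype.val h), fun s => ?_⟩
    obtain ⟨t, ht⟩ := (Set.ext_iff.1 hr s.1).2 fun g => by
      have := s.2 (Shrink.mulEquiv.{u} (α := G) g)⁻¹
      show (F.obj.map (σ _).hom.op).hom s.1 = s.1
      refine Eq.trans ?_ this
      show _ = (F.obj.map (σ _).inv.op).hom s.1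
      rw [map_inv]
      rfl
    exact ⟨t, Subtype.ext ht⟩
  exact NatIso.isIso_of_isIso_app _

/-! ### Higman's criterion for sections of injective sheaves -/

section higman

variable [Etale Y.hom]

open H18Et

/-- `Y ×_X U` in the site. -/
noncomputable abbrev W (U : X.Etale) : X.Etale := (EtaleRestrict.emap Y.hom).obj ((EtCoh.bc Y.hom).obj U)

/-- The projection onto `U`. -/
noncomputable abbrev cW (U : X.Etale) : W Y U ⟶ U := (EtaleRestrict.emapAdj Y.hom).counit.app U

/-- The projection onto `Y`. -/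
noncomputable def pW : W Y Y ⟶ Y := MorphismProperty.Over.homMk (pullback.snd Y.hom Y.hom) rfl

theorem cW_left : (cW Y Y).left = pullback.fst Y.hom Y.hom := by
  simp [cW, EtaleRestrict.emapAdj]

/-- The fan is a product. -/
noncomputable def isLimitW : IsLimit (BinaryFan.mk (pW Y) (cW Y Y)) :=
  BinaryFan.IsLimit.mk _
    (fun {T} f g => MorphismProperty.Over.homMk (pullback.lift g.left f.left
        ((Over.w g.hom).trans (Over.w f.hom).symm)) (by
      show pullback.lift _ _ _ ≫ pullback.snd Y.hom Y.hom ≫ Y.hom = T.hom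
      rw [pullback.lift_snd_assoc]
      exact Over.w f.hom))
    (fun f g => MorphismProperty.Over.Hom.ext (pullback.lift_snd _ _ _))
    (fun f g => MorphismProperty.Over.Hom.ext ((congrArg (_ ≫ ·) (cW_left Y)).trans (pullback.lift_fst _ _ _)))
    fun f g m hf hg => MorphismProperty.Over.Hom.ext (by
      refine pullback.hom_ext ?_ ?_
      · refine Eq.trans ?_ (pullback.lift_fst _ _ _).symm
        exact ((congrArg (m.left ≫ ·) (cW_left Y)).symm).trans (congrArg (fun k => k.left) hg)
      · refine Eq.trans ?_ (pullback.lift_snd _ _ _).symm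
        exact congrArg (fun k => k.left) hf)

/-- The graph of `σ g`. -/
noncomputable def graph (g : G) : Y ⟶ W Y Y :=
  (BinaryFan.IsLimit.lift' (isLimitW Y) (𝟙 Y) (σ g).hom).1

theorem graph_p (g : G) : graph Y σ g ≫ pW Y = 𝟙 Y :=
  (BinaryFan.IsLimit.lift' (isLimitW Y) (𝟙 Y) (σ g).hom).2.1

theorem graph_c (g : G) : graph Y σ g ≫ cW Y Y = (σ g).hom :=
  (BinaryFan.IsLimit.lift' (isLimitW Y) (𝟙 Y) (σ g).hom).2.2

include hgal in
/-- Sections on `Y ×_X Y` are families indexed by the group. -/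
theorem bijective_graph (F : EtCoh.Ab X) :
    Function.Bijective fun (s : F.obj.obj (op (W Y Y))) (g : G) => F.obj.map (graph Y σ g).op s := by
  let θ : Y ⨯ Y ≅ W Y Y := (prodIsProd Y Y).conePointUniqueUpToIso (isLimitW Y)
  have hθ : ∀ g : G, prod.lift (𝟙 Y) (σ g).hom ≫ θ.hom = graph Y σ g := fun g => by
    refine BinaryFan.IsLimit.hom_ext (isLimitW Y) ?_ ?_
    · have h := (prodIsProd Y Y).conePointUniqueUpToIso_hom_comp (isLimitW Y) ⟨WalkingPair.left⟩
      show (_ ≫ θ.hom) ≫ pW Y = graph Y σ g ≫ pW Y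
      rw [Category.assoc, graph_p]
      exact (congrArg (_ ≫ ·) h).trans (prod.lift_fst _ _)
    · have h := (prodIsProd Y Y).conePointUniqueUpToIso_hom_comp (isLimitW Y) ⟨WalkingPair.right⟩
      show (_ ≫ θ.hom) ≫ cW Y Y = graph Y σ g ≫ cW Y Y
      rw [Category.assoc, graph_c]
      exact (congrArg (_ ≫ ·) h).trans (prod.lift_snd _ _)
  have h1 := GaloisSheaf.bijective_of_isColimit (hgalShrink Y σ hgal) F
  have h2 : Function.Bijective (F.obj.map θ.hom.op) :=
    (ConcreteCategory.isIso_iff_bijective _).1 inferInstance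
  refine Function.Bijective.of_comp_iff' (f := fun (k : G → F.obj.obj (op Y)) (i : Shrink.{u} G) =>
    k (Shrink.mulEquiv.{u} i)) ?_ _ |>.1 ?_
  · exact ((Shrink.mulEquiv.{u} (α := G)).toEquiv.arrowCongr (Equiv.refl _)).symm.bijective
  · convert h1.comp h2 using 1
    funext s i
    show F.obj.map (graph Y σ _).op s = F.obj.map _ (F.obj.map θ.hom.op s)
    rw [← ConcreteCategory.comp_apply, ← Functor.map_comp, ← op_comp, ← hθ]
    rfl

theorem graph_map (g k : G) :
    graph Y σ k ≫ (EtaleRestrict.emap Y.hom).map ((EtCoh.bc Y.hom).map (σ g).inv) = graph Y σ (g⁻¹ * k) := by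
  refine BinaryFan.IsLimit.hom_ext (isLimitW Y) ?_ ?_
  · show (_ ≫ _) ≫ pW Y = _ ≫ pW Y
    rw [Category.assoc, graph_p]
    refine Eq.trans ?_ (graph_p Y σ k)
    refine congrArg (_ ≫ ·) (MorphismProperty.Over.Hom.ext ?_)
    simp [pW, EtaleRestrict.emap, EtCoh.bc]
    exact Eq.trans rfl (pullback.lift_snd _ _ _)
  · show (_ ≫ _) ≫ cW Y Y = _ ≫ cW Y Y
    rw [Category.assoc, graph_c, map_mul, map_inv]
    have h := (EtaleRestrict.emapAdj Y.hom).counit.naturality (σ g).inv
    refine (congrArg (_ ≫ ·) h).trans ?_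
    rw [← Category.assoc]
    exact congrArg (· ≫ (σ g).inv) (graph_c Y σ k)

include hY in
theorem mem_cW (U : X.Etale) : Sieve.generate (Presieve.singleton (cW Y U)) ∈ X.smallEtaleTopology U := by
  refine mem_topology_of_forall_point _ fun x => ?_
  obtain ⟨y, hy⟩ := hY (U.hom.base x)
  obtain ⟨z, hz, -⟩ := Scheme.Pullback.exists_preimage_pullback (f := U.hom) (g := Y.hom) x y hy.symm
  refine ⟨W Y U, cW Y U, z, ⟨W Y U, 𝟙 _, cW Y U, ⟨⟩, Category.id_comp _⟩, ?_⟩
  refine Eq.trans ?_ hz
  simp [cW, EtaleRestrict.emapAdj]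
  rfl

include hY hgal in
theorem exists_higman_sect (I : EtCoh.Ab X) [Injective I] :
    ∃ e : (((sectRep Y σ).obj I).V) →ₗ[ULift.{u + 1} ℤ] ((sectRep Y σ).obj I).V,
      ∀ v, ∑ g : G, ((sectRep Y σ).obj I).ρ g (e (((sectRep Y σ).obj I).ρ g⁻¹ v)) = v := by
  classical
  let η := (EtaleRestrict.resPushAdj Y.hom).unit.app I
  have happ : ∀ U : X.Etale, η.hom.app (op U) = I.obj.map (cW Y U).op := fun U => by
    simp [η, EtaleRestrict.resPushAdj]
  haveI : ∀ U, Mono (η.hom.app U) := fun U => by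
    obtain ⟨U⟩ := U
    rw [AddCommGrpCat.mono_iff_injective, happ]
    intro a b h
    refine (((isSheaf_iff_isSheaf_of_type _ _).1
      ((sheafCompose _ (CategoryTheory.forget AddCommGrpCat.{u + 1})).obj I).property) _
        (mem_cW Y hY U)).isSeparatedFor.ext ?_
    rintro V f ⟨V', a', b', ⟨⟩, rfl⟩
    simp only [Functor.map_comp, op_comp]
    exact congrArg (I.obj.map a'.op) h
  haveI : Mono η.hom := NatTrans.mono_of_mono_app _
  haveI : Mono η := (sheafToPresheaf _ _).mono_of_mono_map (inferInstanceAs (Mono η.hom))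
  let r := Injective.factorThru (𝟙 I) η
  have hr : η ≫ r = 𝟙 I := Injective.comp_factorThru _ _
  let Φ : I.obj.obj (op (W Y Y)) →+ (G → I.obj.obj (op Y)) :=
    AddMonoidHom.pi fun g => (I.obj.map (graph Y σ g).op).hom
  let Φe : I.obj.obj (op (W Y Y)) ≃+ (G → I.obj.obj (op Y)) :=
    AddEquiv.ofBijective Φ (bijective_graph Y σ hgal I)
  let rY : I.obj.obj (op (W Y Y)) →+ I.obj.obj (op Y) := (r.hom.app (op Y)).hom
  let e₀ : I.obj.obj (op Y) →+ I.obj.obj (op Y) :=
    rY.comp (Φe.symm.toAddMonoidHom.comp (AddMonoidHom.single (fun _ : G => I.obj.obj (op Y)) 1))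
  refine ⟨lin e₀, fun v => ?_⟩
  let act : G → I.obj.obj (op Y) →+ I.obj.obj (op Y) := fun g => (I.obj.map (σ g).inv.op).hom
  change ∑ g : G, act g (e₀ (act g⁻¹ v)) = v
  let q : G → I.obj.obj (op (W Y Y)) := fun g =>
    (I.obj.map ((EtaleRestrict.emap Y.hom).map ((EtCoh.bc Y.hom).map (σ g).inv)).op).hom
      (Φe.symm (Pi.single 1 (act g⁻¹ v)))
  have hnat : ∀ g, act g (e₀ (act g⁻¹ v)) = rY (q g) := fun g =>
    (ConcreteCategory.congr_hom (r.hom.naturality (σ g).inv.op) _).symm
  have hq : ∑ g : G, q g = (η.hom.app (op Y)).hom v := by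
    apply Φe.injective
    funext k
    rw [map_sum, Finset.sum_apply]
    have hΦ : ∀ s l, Φe s l = (I.obj.map (graph Y σ l).op).hom s := fun _ _ => rfl
    have hqk : ∀ g, Φe (q g) k = (Pi.single 1 (act g⁻¹ v) : G → _) (g⁻¹ * k) := fun g => by
      rw [hΦ, ← congrFun (Φe.apply_symm_apply (Pi.single 1 (act g⁻¹ v))) (g⁻¹ * k), hΦ]
      show (I.obj.map _).hom ((I.obj.map _).hom _) = _
      rw [← ConcreteCategory.comp_apply, ← Functor.map_comp, ← op_comp, graph_map]
    simp only [hqk]
    rw [Finset.sum_eq_single k, inv_mul_cancel, Pi.single_eq_same, hΦ, happ]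
    · show (I.obj.map (σ k⁻¹).inv.op).hom v = (I.obj.map _).hom ((I.obj.map _).hom v)
      rw [← ConcreteCategory.comp_apply, ← Functor.map_comp, ← op_comp, graph_c, map_inv]
      rfl
    · intro g _ hg
      exact Pi.single_eq_of_ne (fun h => hg (inv_mul_eq_one.1 h)) _
    · simp
  simp only [hnat]
  rw [← map_sum, hq]
  exact ConcreteCategory.congr_hom (congrArg (fun k : I ⟶ I => k.hom.app (op Y)) hr) v

include hY hgal in
theorem isZero_rightDerived_inv_sect (I : EtCoh.Ab X) (hI : Injective I) (n : ℕ) (hn : 0 < n) :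
    IsZero (((inv (ULift.{u + 1} ℤ) G).rightDerived n).obj ((sectRep Y σ).obj I)) := by
  obtain ⟨e, he⟩ := exists_higman_sect Y σ hY hgal I
  exact isZero_rightDerived_inv_of_higman _ e he n hn

end higman

end Groth.Agent.H15Site.HS
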